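import Groth.Agent.WeakAss.Basic
import Groth.Prelude.Def_FlatCA
import Mathlib

/-!
Associated primes of fibre modules: `fiberMod p S N` is the localisation of `N/pN` at the image of
`R ∖ p`; vanishing in tensor products is witnessed by finitely generated submodules.
-/

namespace Groth.Agent.AssFiber

universe u

open TensorProduct Groth.Agent.WeakAss
attribute [local instance] Algebra.TensorProduct.rightAlgebra

variable {R S : Type u} [CommRing R] [CommRing S] [Algebra R S] (p : Ideal R) [p.IsPrime]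

theorem isLocalizedModule_residueField :
    IsLocalizedModule p.primeCompl ((Algebra.linearMap (R ⧸ p) p.ResidueField).restrictScalars R) := by
  refine ⟨fun r => ?_, fun y => ?_, fun {a b} h => ⟨1, ?_⟩⟩
  · have hne : algebraMap R p.ResidueField r ≠ 0 := fun h => r.2 (Ideal.algebraMap_residueField_eq_zero.1 h)
    refine (Module.End.isUnit_iff _).2 ⟨fun a b hab => ?_, fun c => ⟨(algebraMap R p.ResidueField r)⁻¹ * c, ?_⟩⟩
    · simp only [Module.algebraMap_end_apply, Algebra.smul_def] at hab
      exact mul_left_cancel₀ hne hab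
    · simp only [Module.algebraMap_end_apply, Algebra.smul_def]
      rw [← mul_assoc, mul_inv_cancel₀ hne, one_mul]
  · obtain ⟨a, b, hb, rfl⟩ := IsFractionRing.div_surjective (R ⧸ p) y
    obtain ⟨a, rfl⟩ := Ideal.Quotient.mk_surjective a
    obtain ⟨b, rfl⟩ := Ideal.Quotient.mk_surjective b
    have hb' : b ∉ p := fun h => nonZeroDivisors.ne_zero hb (Ideal.Quotient.eq_zero_iff_mem.2 h)
    refine ⟨⟨Ideal.Quotient.mk p a, ⟨b, hb'⟩⟩, ?_⟩
    change b • (_ / _) = algebraMap (R ⧸ p) p.ResidueField (Ideal.Quotient.mk p a)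
    rw [Algebra.smul_def]
    rw [show algebraMap R p.ResidueField b = algebraMap (R ⧸ p) p.ResidueField (Ideal.Quotient.mk p b) from
      IsScalarTower.algebraMap_apply R (R ⧸ p) p.ResidueField b, mul_div_cancel₀]
    exact IsFractionRing.to_map_ne_zero_of_mem_nonZeroDivisors hb
  · rw [one_smul, one_smul]
    exact IsFractionRing.injective (R ⧸ p) p.ResidueField h

/-- Every element of the fibre ring times an element of `R ∖ p` comes from `S`. -/
theorem exists_smul_eq_includeRight (b : p.Fiber S) :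
    ∃ r ∉ p, ∃ s : S, (1 : p.ResidueField) ⊗ₜ[R] algebraMap R S r * b = (1 : p.ResidueField) ⊗ₜ[R] s := by
  induction b using TensorProduct.induction_on with
  | zero => exact ⟨1, fun h => ‹p.IsPrime›.ne_top ((Ideal.eq_top_iff_one _).2 h), 0, by simp⟩
  | tmul c s =>
    obtain ⟨⟨a, r⟩, h⟩ := (isLocalizedModule_residueField p).surj c
    obtain ⟨a, rfl⟩ := Ideal.Quotient.mk_surjective a
    refine ⟨r, r.2, a • s, ?_⟩
    have h' : (r : R) • c = algebraMap R p.ResidueField a := by
      simp only [Submonoid.smul_def, LinearMap.coe_restrictScalars, Algebra.linearMap_apply] at h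
      rw [h]
      exact (IsScalarTower.algebraMap_apply R (R ⧸ p) p.ResidueField a).symm
    rw [Algebra.TensorProduct.tmul_mul_tmul, one_mul, ← Algebra.smul_def, ← smul_tmul, h',
      Algebra.algebraMap_eq_smul_one, smul_tmul]
  | add x y hx hy =>
    obtain ⟨r, hr, s, hs⟩ := hx
    obtain ⟨r', hr', s', hs'⟩ := hy
    refine ⟨r * r', fun h => (‹p.IsPrime›.mem_or_mem h).elim hr hr', algebraMap R S r' * s + algebraMap R S r * s', ?_⟩
    have e : ∀ a b : S, (1 : p.ResidueField) ⊗ₜ[R] (a * b) = (1 : p.ResidueField) ⊗ₜ[R] a * (1 : p.ResidueField) ⊗ₜ[R] b := by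
      intro a b; rw [Algebra.TensorProduct.tmul_mul_tmul, one_mul]
    rw [map_mul, e, tmul_add, e, e, ← hs, ← hs']
    ring

variable (N : Type u) [AddCommGroup N] [Module S N] [Module R N] [IsScalarTower R S N]

/-- The submodule `pN` of `N`. -/
abbrev pN : Submodule S N := (p.map (algebraMap R S)) • (⊤ : Submodule S N)

theorem toFiberMod_eq_zero_of_mem {n : N} (hn : n ∈ pN p (S := S) N) : FlatCA.toFiberMod p (S := S) N n = 0 := by
  have hle : pN p (S := S) N ≤ LinearMap.ker (FlatCA.toFiberMod p (S := S) N) := by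
    refine Submodule.smul_le.2 fun s hs m _ => ?_
    rw [LinearMap.mem_ker]
    show ((1 : p.Fiber S) ⊗ₜ[S] (s • m) : (p.Fiber S) ⊗[S] N) = 0
    rw [← smul_tmul, show s • (1 : p.Fiber S) = 0 from ?_, zero_tmul]
    rw [Algebra.smul_def, mul_one]
    show (1 : p.ResidueField) ⊗ₜ[R] s = 0
    have hle : p.map (algebraMap R S) ≤
        RingHom.ker (Algebra.TensorProduct.includeRight (R := R) (A := p.ResidueField) (B := S)).toRingHom := by
      refine Ideal.map_le_iff_le_comap.2 fun r hr => ?_
      show (1 : p.ResidueField) ⊗ₜ[R] algebraMap R S r = 0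
      rw [Algebra.algebraMap_eq_smul_one, ← smul_tmul, ← Algebra.algebraMap_eq_smul_one,
        Ideal.algebraMap_residueField_eq_zero.2 hr, zero_tmul]
    exact hle hs
  exact hle hn

/-- The natural map `N/pN → κ(p) ⊗ N`. -/
noncomputable def quotToFiber : (N ⧸ pN p (S := S) N) →ₗ[S] FlatCA.fiberMod p S N :=
  (pN p (S := S) N).liftQ (FlatCA.toFiberMod p (S := S) N) fun _ hn => toFiberMod_eq_zero_of_mem p N hn

theorem algebraMap_smul_fiberMod (s : S) (x : FlatCA.fiberMod p S N) :
    algebraMap S (p.Fiber S) s • x = s • x :=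
  IsScalarTower.algebraMap_smul (M := (p.Fiber S) ⊗[S] N) (p.Fiber S) s x

theorem smul_mem_pN {n : N} (h : n ∈ p • (⊤ : Submodule R N)) : n ∈ pN p (S := S) N := by
  induction h using Submodule.smul_induction_on' with
  | smul r hr m _ =>
    rw [← algebraMap_smul S r m]
    exact Submodule.smul_mem_smul (Ideal.mem_map_of_mem _ hr) Submodule.mem_top
  | add a _ b _ ha hb => exact add_mem ha hb

theorem mem_smul_top_of_mem_pN {n : N} (h : n ∈ pN p (S := S) N) : n ∈ p • (⊤ : Submodule R N) := by
  induction h using Submodule.smul_induction_on' with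
  | smul s hs m _ =>
    revert m
    have hs' : s ∈ Submodule.span S (algebraMap R S '' (p : Set R)) := hs
    induction hs' using Submodule.span_induction with
    | mem t ht =>
      obtain ⟨r, hr, rfl⟩ := ht
      intro m _
      rw [algebraMap_smul]
      exact Submodule.smul_mem_smul hr Submodule.mem_top
    | zero => intro m _; rw [zero_smul]; exact zero_mem _
    | add a b _ _ ha hb => intro m _; rw [add_smul]; exact add_mem (ha (by assumption) m Submodule.mem_top) (hb (by assumption) m Submodule.mem_top)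
    | smul t a hamem ha =>
      intro m _
      rw [smul_eq_mul, mul_comm, mul_smul]
      exact ha hamem (t • m) Submodule.mem_top
  | add a _ b _ ha hb => exact add_mem ha hb

theorem exists_smul_mem_of_toFiberMod_eq_zero {n : N} (hn : FlatCA.toFiberMod p (S := S) N n = 0) :
    ∃ r ∉ p, algebraMap R S r • n ∈ pN p (S := S) N := by
  let F : p.ResidueField ⊗[R] S →ₗ[R] N →ₗ[R] p.ResidueField ⊗[R] N :=
    TensorProduct.lift (LinearMap.mk₂ R
      (fun c s => (TensorProduct.mk R p.ResidueField N c).comp ((Algebra.lsmul R R N s).restrictScalars R))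
      (fun a b s => by ext; simp [add_tmul]) (fun r a s => by ext; simp [smul_tmul'])
      (fun c a b => by ext; simp [add_smul, tmul_add]) (fun r c s => by ext; simp))
  have hF : ∀ (s : S) (b : p.Fiber S) (m : N), F (s • b) m = F b (s • m) := by
    intro s b m
    induction b using TensorProduct.induction_on with
    | zero => simp
    | tmul c t =>
      rw [Algebra.smul_def, show algebraMap S (p.Fiber S) s = (1 : p.ResidueField) ⊗ₜ[R] s from rfl,
        Algebra.TensorProduct.tmul_mul_tmul, one_mul]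
      simp [F, mul_smul, smul_comm s t m]
    | add x y hx hy => simp only [smul_add, map_add, LinearMap.add_apply, hx, hy]
  let h : (p.Fiber S) ⊗[S] N →+ p.ResidueField ⊗[R] N :=
    TensorProduct.liftAddHom
      { toFun := fun b => (F b).toAddMonoidHom
        map_zero' := by ext; simp
        map_add' := fun a b => by ext; simp }
      fun s b m => hF s b m
  have h1 : (1 : p.ResidueField) ⊗ₜ[R] n = 0 := by
    have h2 : h ((1 : p.Fiber S) ⊗ₜ[S] n) = (1 : p.ResidueField) ⊗ₜ[R] n := by
      show F 1 n = _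
      rw [Algebra.TensorProduct.one_def]
      simp [F]
    rw [← h2, show ((1 : p.Fiber S) ⊗ₜ[S] n) = 0 from hn, map_zero]
  have := isLocalizedModule_residueField p
  have h2 : TensorProduct.AlgebraTensorModule.rTensor R N
      ((Algebra.linearMap (R ⧸ p) p.ResidueField).restrictScalars R) ((1 : R ⧸ p) ⊗ₜ[R] n) = 0 := by
    simpa using h1
  obtain ⟨c, hc⟩ := (IsLocalizedModule.eq_zero_iff p.primeCompl _).1 h2
  refine ⟨c, c.2, ?_⟩
  have hc' := congrArg (TensorProduct.quotTensorEquivQuotSMul N p) hc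
  rw [map_zero, Submonoid.smul_def, smul_tmul', Algebra.smul_def, mul_one,
    Ideal.Quotient.algebraMap_eq, TensorProduct.quotTensorEquivQuotSMul_mk_tmul,
    Submodule.Quotient.mk_eq_zero] at hc'
  rw [algebraMap_smul]
  exact smul_mem_pN p N hc'

/-- `κ(p) ⊗ N` is the localisation of `N/pN` at the image of `R ∖ p`. -/
theorem isLocalizedModule_quotToFiber :
    IsLocalizedModule (Algebra.algebraMapSubmonoid S p.primeCompl) (quotToFiber p (S := S) N) := by
  refine ⟨?_, fun y => ?_, fun {a b} h => ?_⟩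
  · rintro ⟨_, r, hr, rfl⟩
    have hu : IsUnit (algebraMap S (p.Fiber S) (algebraMap R S r)) := by
      show IsUnit ((1 : p.ResidueField) ⊗ₜ[R] algebraMap R S r)
      rw [Algebra.algebraMap_eq_smul_one, ← smul_tmul, ← Algebra.algebraMap_eq_smul_one]
      have hne : algebraMap R p.ResidueField r ≠ 0 := fun h => hr (Ideal.algebraMap_residueField_eq_zero.1 h)
      exact (isUnit_iff_ne_zero.2 hne).map (Algebra.TensorProduct.includeLeftRingHom (R := R) (A := p.ResidueField) (B := S))
    obtain ⟨u, hu⟩ := hu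
    refine (Module.End.isUnit_iff _).2 ⟨fun x y hxy => ?_, fun z => ⟨((u⁻¹ : (p.Fiber S)ˣ) : p.Fiber S) • z, ?_⟩⟩
    · rw [Module.algebraMap_end_apply, Module.algebraMap_end_apply, ← algebraMap_smul_fiberMod,
        ← algebraMap_smul_fiberMod, ← hu] at hxy
      exact u.isUnit.smul_left_cancel.1 hxy
    · rw [Module.algebraMap_end_apply, ← algebraMap_smul_fiberMod, ← hu, smul_smul, Units.mul_inv, one_smul]
  · change (p.Fiber S) ⊗[S] N at y
    induction y with
    | zero => exact ⟨⟨0, 1⟩, by rw [map_zero, one_smul]; rfl⟩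
    | tmul b n =>
      obtain ⟨r, hr, s, hs⟩ := exists_smul_eq_includeRight p b
      refine ⟨⟨Submodule.Quotient.mk (s • n), ⟨_, r, hr, rfl⟩⟩, ?_⟩
      show (algebraMap R S r) • (b ⊗ₜ[S] n) = ((1 : p.Fiber S) ⊗ₜ[S] (s • n))
      rw [smul_tmul', ← smul_tmul, Algebra.smul_def, Algebra.smul_def, mul_one]
      exact congrArg (fun z => z ⊗ₜ[S] n) hs
    | add x y hx hy =>
      obtain ⟨⟨a, σ⟩, ha⟩ := hx
      obtain ⟨⟨b, τ⟩, hb⟩ := hy
      refine ⟨⟨(τ : S) • a + (σ : S) • b, σ * τ⟩, ?_⟩
      rw [map_add, map_smul, map_smul, ← ha, ← hb]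
      show ((σ : S) * (τ : S)) • (x + y) = (τ : S) • ((σ : S) • x) + (σ : S) • ((τ : S) • y)
      rw [smul_add, smul_smul, smul_smul, mul_comm (τ : S)]
  · obtain ⟨a, rfl⟩ := Submodule.Quotient.mk_surjective _ a
    obtain ⟨b, rfl⟩ := Submodule.Quotient.mk_surjective _ b
    have h' : FlatCA.toFiberMod p (S := S) N a = FlatCA.toFiberMod p (S := S) N b := h
    obtain ⟨r, hr, hmem⟩ := exists_smul_mem_of_toFiberMod_eq_zero p (S := S) N (n := a - b) (by rw [map_sub, h', sub_self])
    refine ⟨⟨_, r, hr, rfl⟩, ?_⟩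
    show algebraMap R S r • (Submodule.Quotient.mk a : N ⧸ pN p (S := S) N) = algebraMap R S r • (Submodule.Quotient.mk b : N ⧸ pN p (S := S) N)
    rw [← Submodule.Quotient.mk_smul, ← Submodule.Quotient.mk_smul,
      Submodule.Quotient.eq, ← smul_sub]
    exact hmem

theorem disjoint_of_comap_eq {q : Ideal S} (hq : q.comap (algebraMap R S) = p) :
    Disjoint (Algebra.algebraMapSubmonoid S p.primeCompl : Set S) (q : Set S) := by
  rw [Set.disjoint_left]
  rintro _ ⟨r, hr, rfl⟩ h
  exact hr (hq ▸ h)

/-- For flat `N` the elements of `R ∖ p` are regular on `N/pN`. -/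
theorem isSMulRegular_quot [Module.Flat R N] {s : S} (hs : s ∈ Algebra.algebraMapSubmonoid S p.primeCompl) :
    IsSMulRegular (N ⧸ pN p (S := S) N) s := by
  obtain ⟨r, hr, rfl⟩ := hs
  rw [isSMulRegular_iff_right_eq_zero_of_smul]
  intro x hx
  obtain ⟨n, rfl⟩ := Submodule.Quotient.mk_surjective _ x
  rw [← Submodule.Quotient.mk_smul, algebraMap_smul, Submodule.Quotient.mk_eq_zero] at hx
  have hz : (TensorProduct.quotTensorEquivQuotSMul N p).symm (Submodule.Quotient.mk (r • n)) = 0 := by
    rw [(Submodule.Quotient.mk_eq_zero _).2 (mem_smul_top_of_mem_pN p N hx), map_zero]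
  have hinj : Function.Injective ((LinearMap.lsmul R (R ⧸ p) r).rTensor N) := by
    refine Module.Flat.rTensor_preserves_injective_linearMap _ fun a b hab => ?_
    simp only [LinearMap.lsmul_apply, Algebra.smul_def, Ideal.Quotient.algebraMap_eq] at hab
    exact mul_left_cancel₀ (fun h => hr (Ideal.Quotient.eq_zero_iff_mem.1 h)) hab
  rw [Submodule.Quotient.mk_smul, map_smul] at hz
  set w := (TensorProduct.quotTensorEquivQuotSMul N p).symm (Submodule.Quotient.mk n) with hw
  have hlin : (LinearMap.lsmul R (R ⧸ p) r).rTensor N w = r • w := by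
    clear_value w
    clear hw hz
    induction w with
    | zero => simp
    | tmul a b => rw [LinearMap.rTensor_tmul, LinearMap.lsmul_apply, smul_tmul']
    | add a b ha hb => rw [map_add, smul_add, ha, hb]
  have hw0 : w = 0 := hinj (by rw [hlin, hz, map_zero])
  rw [hw, LinearEquiv.map_eq_zero_iff, Submodule.Quotient.mk_eq_zero] at hw0
  rw [Submodule.Quotient.mk_eq_zero]
  exact smul_mem_pN p N hw0

/-- For flat `N`: associated primes of `N/pN` and of `κ(p) ⊗ N` coincide. -/
theorem ass_quot_eq [Module.Flat R N] :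
    FlatCA.ass S (N ⧸ pN p (S := S) N) = FlatCA.ass S (FlatCA.fiberMod p S N) :=
  have := isLocalizedModule_quotToFiber p (S := S) N
  ass_localizedModule_of_regular (Algebra.algebraMapSubmonoid S p.primeCompl) (quotToFiber p (S := S) N)
    fun _ hs => isSMulRegular_quot p N hs

/-- For flat `N`: the associated primes of `N/pN` lie over `p`. -/
theorem comap_eq_of_mem_ass [Module.Flat R N] {q : Ideal S} (h : q ∈ FlatCA.ass S (N ⧸ pN p (S := S) N)) :
    q.comap (algebraMap R S) = p := by
  obtain ⟨hqp, x, hx⟩ := h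
  refine le_antisymm (fun r hr => ?_) (fun r hr => ?_)
  · by_contra hrp
    rw [Ideal.mem_comap, hx, mem_annEl] at hr
    have := (isSMulRegular_quot p N ⟨r, hrp, rfl⟩).right_eq_zero_of_smul hr
    exact hqp.ne_top (by rw [hx, this]; simp [Submodule.annihilator_bot])
  · rw [Ideal.mem_comap, hx, mem_annEl]
    obtain ⟨n, rfl⟩ := Submodule.Quotient.mk_surjective _ x
    rw [← Submodule.Quotient.mk_smul, Submodule.Quotient.mk_eq_zero]
    exact Submodule.smul_mem_smul (Ideal.mem_map_of_mem _ hr) Submodule.mem_top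

/-- Associated primes of the fibre module over `S` and over the fibre ring. -/
theorem ass_fiberMod_eq : FlatCA.ass S (FlatCA.fiberMod p S N) =
    Ideal.comap (Algebra.TensorProduct.includeRight (R := R) (A := p.ResidueField) (B := S)).toRingHom ''
      FlatCA.ass (p.Fiber S) (FlatCA.fiberMod p S N) := by
  have hann : ∀ x : FlatCA.fiberMod p S N, annEl S x =
      (annEl (p.Fiber S) x).comap (Algebra.TensorProduct.includeRight (R := R) (A := p.ResidueField) (B := S)).toRingHom := by
    intro x
    ext s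
    rw [Ideal.mem_comap, mem_annEl, mem_annEl]
    have : (Algebra.TensorProduct.includeRight (R := R) (A := p.ResidueField) (B := S)).toRingHom s • x = s • x :=
      IsScalarTower.algebraMap_smul (M := (p.Fiber S) ⊗[S] N) (p.Fiber S) s x
    rw [this]
  ext q
  constructor
  · rintro ⟨hq, x, hx⟩
    have hx' : q = annEl S x := hx
    rw [hann] at hx'
    refine ⟨annEl (p.Fiber S) x, mem_ass_iff.2 ⟨⟨fun h => hq.ne_top (by rw [hx', h, Ideal.comap_top]), ?_⟩, x, rfl⟩, hx'.symm⟩
    intro a b hab
    obtain ⟨r, hr, s, hs⟩ := exists_smul_eq_includeRight p a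
    obtain ⟨r', hr', s', hs'⟩ := exists_smul_eq_includeRight p b
    have hu : ∀ r ∉ p, IsUnit ((1 : p.ResidueField) ⊗ₜ[R] algebraMap R S r : p.Fiber S) := fun r hr => by
      rw [Algebra.algebraMap_eq_smul_one, ← smul_tmul, ← Algebra.algebraMap_eq_smul_one]
      have hne : algebraMap R p.ResidueField r ≠ 0 := fun h => hr (Ideal.algebraMap_residueField_eq_zero.1 h)
      exact (isUnit_iff_ne_zero.2 hne).map (Algebra.TensorProduct.includeLeftRingHom (R := R) (A := p.ResidueField) (B := S))
    have hss : s * s' ∈ q := by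
      rw [hx', Ideal.mem_comap]
      show (1 : p.ResidueField) ⊗ₜ[R] (s * s') ∈ annEl (p.Fiber S) x
      rw [← one_mul (1 : p.ResidueField), ← Algebra.TensorProduct.tmul_mul_tmul, ← hs, ← hs', mul_mul_mul_comm]
      exact Ideal.mul_mem_left _ _ hab
    rcases hq.mem_or_mem hss with h | h
    · left
      rw [hx', Ideal.mem_comap] at h
      change (1 : p.ResidueField) ⊗ₜ[R] s ∈ annEl (p.Fiber S) x at h
      rw [← hs] at h
      exact (Ideal.unit_mul_mem_iff_mem _ (hu r hr)).1 h
    · right
      rw [hx', Ideal.mem_comap] at h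
      change (1 : p.ResidueField) ⊗ₜ[R] s' ∈ annEl (p.Fiber S) x at h
      rw [← hs'] at h
      exact (Ideal.unit_mul_mem_iff_mem _ (hu r' hr')).1 h
  · rintro ⟨Q, ⟨hQ, x, hx⟩, rfl⟩
    refine ⟨Ideal.IsPrime.comap _, x, ?_⟩
    rw [hx]
    exact (hann x).symm

omit [p.IsPrime] in
/-- An element vanishing in `N ⊗ M` vanishes already over a finitely generated submodule. -/
theorem exists_fg_lTensor_inclusion_eq_zero {M : Type u} [AddCommGroup M] [Module R M] (M' : Submodule R M)
    (hfg : M'.FG) (z : N ⊗[R] M') (hz : M'.subtype.lTensor N z = 0) :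
    ∃ (M'' : Submodule R M) (h : M' ≤ M''), M''.FG ∧ (Submodule.inclusion h).lTensor N z = 0 := by
  classical
  let π : (N →₀ R) →ₗ[R] N := Finsupp.linearCombination R id
  have hπ : Function.Surjective π := fun b => ⟨Finsupp.single b 1, by simp [π]⟩
  obtain ⟨zt, hzt⟩ := LinearMap.rTensor_surjective M' hπ z
  have h0 : π.rTensor M (M'.subtype.lTensor (N →₀ R) zt) = 0 := by
    rw [← LinearMap.comp_apply, LinearMap.rTensor_comp_lTensor, ← LinearMap.lTensor_comp_rTensor,
      LinearMap.comp_apply, hzt, hz]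
  have hex : Function.Exact ((LinearMap.ker π).subtype.rTensor M) (π.rTensor M) :=
    rTensor_exact (M := ↥(LinearMap.ker π)) M π.exact_subtype_ker_map hπ
  obtain ⟨w, hw⟩ := (hex _).1 h0
  obtain ⟨k, a, m, rfl⟩ := TensorProduct.exists_sum_tmul_eq w
  let M'' := M' ⊔ Submodule.span R (Set.range m)
  refine ⟨M'', le_sup_left, hfg.sup (Submodule.fg_span (Set.finite_range m)), ?_⟩
  let w' : LinearMap.ker π ⊗[R] M'' := ∑ j, a j ⊗ₜ ⟨m j, Submodule.mem_sup_right (Submodule.subset_span ⟨j, rfl⟩)⟩
  have hinj : Function.Injective (M''.subtype.lTensor (N →₀ R)) :=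
    Module.Flat.lTensor_preserves_injective_linearMap _ Subtype.val_injective
  have heq : (Submodule.inclusion (le_sup_left : M' ≤ M'')).lTensor (N →₀ R) zt =
      (LinearMap.ker π).subtype.rTensor M'' w' := by
    apply hinj
    rw [← LinearMap.comp_apply, ← LinearMap.lTensor_comp]
    have e2 : M''.subtype.lTensor (N →₀ R) ((LinearMap.ker π).subtype.rTensor M'' w') =
        (LinearMap.ker π).subtype.rTensor M (∑ j, a j ⊗ₜ m j) := by
      simp [w', map_sum]
    rw [e2, hw]
    rfl
  rw [← hzt, ← LinearMap.comp_apply, LinearMap.lTensor_comp_rTensor, ← LinearMap.rTensor_comp_lTensor,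
    LinearMap.comp_apply, heq, ← LinearMap.comp_apply, ← LinearMap.rTensor_comp, LinearMap.comp_ker_subtype]
  simp

end Groth.Agent.AssFiber
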